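import Cfsg.Agent.Lib.Goldschmidt1.Comb.Mono
import Cfsg.Agent.Lib.Goldschmidt1.Comb.JR

/-!
# The combinatorics of a pair system on a strongly closed abelian subgroup

Owner: helper1 (`notes/goldschmidt_helper72.md`, section 1).  A pair system with a pair on an
elementary abelian `A`, irreducible under `N(A)` with `N(A)/C(A)` without subgroup of index two, is
of Janko–Ree type (`|A| = 8`, automiser of odd order) or monomial (at least three blocks).
-/

set_option autoImplicit false

universe u

namespace Cfsg.Agent.Lib.Goldschmidt1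

/-- Section 1: a pair system with a pair is of Janko–Ree type or monomial. -/
theorem comb {G : Type u} [Group G] [Finite G] {A : Subgroup G}
    {P : Subgroup G → Subgroup G → Subgroup G → Prop} (H : Setup A P) (hex : ∃ B W Q, P B W Q) :
    CaseJR A P ∨ ∃ (ι : Type) (_ : Finite ι) (W Q : ι → Subgroup G), CaseMono A P ι W Q := by
  obtain ⟨x₀, hx₀⟩ := exists_block H hex
  rcases dichotomy H hx₀ with hA | ⟨h2, hD⟩
  · exact Or.inr (CombMono.caseMono hA H hx₀)
  · exact Or.inl (CombJR.Spread.caseJR ⟨H, hx₀, h2, hD⟩)

end Cfsg.Agent.Lib.Goldschmidt1
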